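import Groth.Agent.PureDesc.Main
import Groth.Prelude.Def_SGA2
import Mathlib.AlgebraicGeometry.Morphisms.FlatDescent

/-! Pure pairs and faithfully flat descent. -/

set_option autoImplicit false
set_option backward.isDefEq.respectTransparency false
set_option backward.isDefEq.respectTransparency.types false
set_option linter.style.haveILetI false
universe u

open CategoryTheory CategoryTheory.Limits AlgebraicGeometry TopologicalSpace

noncomputable section

namespace Groth.Agent.PureDesc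

theorem isPurePair_of_descent {X X₁ : Scheme.{u}} [IsLocallyNoetherian X] (U : X.Opens)
    (hU : ∀ x : X, x ∉ U → (2 : ℕ∞) ≤ LocCoh.depth (X.presheaf.stalk x) (X.presheaf.stalk x))
    (f : X₁ ⟶ X) [Flat f] [Surjective f] [QuasiCompact f] (h : SGA2.IsPurePair X₁ (f ⁻¹ᵁ U)) :
    SGA2.IsPurePair X U := by
  intro V
  let j := X.homOfLE (inf_le_left : V ⊓ U ≤ V)
  have hrange : Set.range j = V.ι ⁻¹' (U : Set X) := by
    rw [← Scheme.Hom.coe_opensRange, Scheme.opensRange_homOfLE]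
    ext v
    exact ⟨fun hv => hv.2, fun hv => ⟨v.2, hv⟩⟩
  have hd : ∀ z : (V : Scheme.{u}), z ∉ Set.range j →
      (2 : ℕ∞) ≤ LocCoh.depth ((V : Scheme.{u}).presheaf.stalk z) ((V : Scheme.{u}).presheaf.stalk z) := by
    intro z hz
    rw [hrange] at hz
    exact (hU _ hz).trans (Pi1X.depth_stalk_le V.ι z)
  let π := f ∣_ V
  haveI : Flat π := inferInstance
  haveI : Surjective π := IsZariskiLocalAtTarget.restrict ‹Surjective f› V
  haveI : QuasiCompact π := inferInstance
  have hπ : ∀ t, V.ι (π t) = f t.1 := fun t => by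
    rw [← Scheme.Hom.comp_apply, morphismRestrict_ι]
    rfl
  let i := X₁.homOfLE (inf_le_left : f ⁻¹ᵁ V ⊓ f ⁻¹ᵁ U ≤ f ⁻¹ᵁ V)
  haveI : (FEt.restrict i).IsEquivalence := h (f ⁻¹ᵁ V)
  have hi : Set.range (pullback.fst π j) = Set.range i := by
    rw [Scheme.Pullback.range_fst, hrange, ← Scheme.Hom.coe_opensRange i, Scheme.opensRange_homOfLE]
    ext t
    simp only [Set.mem_preimage, SetLike.mem_coe, Scheme.Hom.mem_preimage]
    constructor
    · intro ht
      refine ⟨t.2, ?_⟩
      show f t.1 ∈ U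
      rwa [hπ t] at ht
    · intro ht
      rw [hπ t]
      exact ht.2
  let e := IsOpenImmersion.isoOfRangeEq (pullback.fst π j) i hi
  have he : e.hom ≫ i = pullback.fst π j := IsOpenImmersion.isoOfRangeEq_hom_fac _ _ _
  obtain ⟨hfull, hfaith⟩ := full_faithful j hd
  haveI := hfull
  haveI := hfaith
  have hext : ∀ {E₁ : Scheme.{u}} (h₁ : E₁ ⟶ pullback π j), FEt.prop h₁ →
      ∃ (F : Scheme.{u}) (k : E₁ ⟶ F) (ee : F ⟶ (f ⁻¹ᵁ V : Scheme.{u})), FEt.prop ee ∧
        IsPullback k h₁ ee (pullback.fst π j) := by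
    intro E₁ h₁ hp
    let Y₁ : FEt.Cat _ := MorphismProperty.Over.mk ⊤ (h₁ ≫ e.hom)
      ((MorphismProperty.cancel_right_of_respectsIso FEt.prop h₁ e.hom).2 hp)
    let F := (FEt.restrict i).objPreimage Y₁
    let ψ := (FEt.restrict i).objObjPreimageIso Y₁
    let ψ' : E₁ ≅ pullback F.hom i :=
      ((MorphismProperty.Over.forget _ _ _ ⋙ Over.forget _).mapIso ψ).symm
    have hψ : ψ'.hom ≫ pullback.snd F.hom i = h₁ ≫ e.hom := MorphismProperty.Over.w ψ.inv
    refine ⟨F.left, ψ'.hom ≫ pullback.fst F.hom i, F.hom, F.prop, ?_⟩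
    refine (IsPullback.of_hasPullback F.hom i).of_iso ψ'.symm (Iso.refl _) e.symm (Iso.refl _) (by simp) ?_ (by simp) ?_
    · show pullback.snd F.hom i ≫ e.inv = ψ'.inv ≫ h₁
      rw [Iso.eq_inv_comp, reassoc_of% hψ, Iso.hom_inv_id, Category.comp_id]
    · show i ≫ 𝟙 _ = e.inv ≫ pullback.fst π j
      rw [Category.comp_id, ← he, Iso.inv_hom_id_assoc]
  haveI : (FEt.restrict j).EssSurj := ⟨fun Y => by
    obtain ⟨N, n, k, hn, H⟩ := exists_extension j hd π Y.hom Y.prop hext
    exact ⟨MorphismProperty.Over.mk ⊤ n hn, ⟨MorphismProperty.Over.isoMk H.isoPullback.symm (by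
      show H.isoPullback.inv ≫ Y.hom = pullback.snd n j
      exact H.isoPullback_inv_snd)⟩⟩⟩
  exact { }

end Groth.Agent.PureDesc
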