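import Mathlib.AlgebraicGeometry.Normalization
import Mathlib.AlgebraicGeometry.Morphisms.Flat
import Mathlib.RingTheory.Etale.Descent
import Mathlib.RingTheory.Finiteness.Descent
import Mathlib.RingTheory.RingHom.Etale
import Mathlib.RingTheory.RingHom.Finite
import Mathlib.AlgebraicGeometry.Morphisms.Etale
import Mathlib.AlgebraicGeometry.Morphisms.Finite

/-! Direct images of covers which extend after a faithfully flat base change. -/

set_option autoImplicit false
set_option backward.isDefEq.respectTransparency false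
set_option backward.isDefEq.respectTransparency.types false
set_option linter.style.haveILetI false
universe u

open CategoryTheory CategoryTheory.Limits AlgebraicGeometry TopologicalSpace

noncomputable section

namespace Groth.Agent.PureDesc

theorem codescends {P : ∀ {R S : Type u} [CommRing R] [CommRing S], (R →+* S) → Prop}
    (hP : RingHom.CodescendsAlong P RingHom.FaithfullyFlat) {R S R' S' : CommRingCat.{u}}
    {a : R ⟶ S} {b : R ⟶ R'} {c : S ⟶ S'} {d : R' ⟶ S'} (h : IsPushout a b c d)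
    (hb : b.hom.FaithfullyFlat) (hd : P d.hom) : P a.hom := by
  algebraize [a.hom, b.hom, c.hom, d.hom, c.hom.comp a.hom]
  have : IsScalarTower R R' S' := .of_algebraMap_eq' (congrArg CommRingCat.Hom.hom h.w)
  have : Algebra.IsPushout R S R' S' := CommRingCat.isPushout_iff_isPushout.mp h
  exact hP (R' := R') (S' := S') hb hd

variable {Z P U E F : Scheme.{u}}

/-- If a cover of `P` becomes, over a faithfully flat affine `U → W`, the restriction of a finite étale cover
`F → U`, its functions over `W` are finite étale, when functions extend from `j⁻¹W` to `W`. -/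
theorem finite_etale_app (j : P ⟶ Z) [QuasiCompact j] [QuasiSeparated j]
    (g : E ⟶ Z) [QuasiCompact g] [QuasiSeparated g]
    (τ : U ⟶ Z) [IsAffine U] [Flat τ] (eF : F ⟶ U) [IsFinite eF] [Etale eF]
    (φ : pullback g τ ≅ pullback j (eF ≫ τ))
    (hφ : φ.hom ≫ pullback.snd j (eF ≫ τ) ≫ eF = pullback.snd g τ)
    {W : Z.Opens} (hW : IsAffineOpen W) (hτ : Set.range τ = W)
    (hj : Function.Bijective (j.app W)) :
    (g.app W).hom.Finite ∧ (g.app W).hom.Etale := by
  haveI : IsAffine F := isAffine_of_isAffineHom eF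
  have hle : (⊤ : U.Opens) ≤ τ ⁻¹ᵁ W := fun x _ => hτ.le ⟨x, rfl⟩
  have hle' : (⊤ : F.Opens) ≤ (eF ≫ τ) ⁻¹ᵁ W := fun x _ => hτ.le ⟨eF x, rfl⟩
  have hUY : (⊤ : (pullback g τ).Opens) = pullback.fst g τ ⁻¹ᵁ g ⁻¹ᵁ W ⊓ pullback.snd g τ ⁻¹ᵁ ⊤ := by
    refine le_antisymm (fun z _ => ⟨?_, trivial⟩) le_top
    show (pullback.fst g τ ≫ g) z ∈ W
    rw [pullback.condition]
    exact hτ.le ⟨_, rfl⟩
  have hUY' : (⊤ : (pullback j (eF ≫ τ)).Opens) =
      pullback.fst j (eF ≫ τ) ⁻¹ᵁ j ⁻¹ᵁ W ⊓ pullback.snd j (eF ≫ τ) ⁻¹ᵁ ⊤ := by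
    refine le_antisymm (fun z _ => ⟨?_, trivial⟩) le_top
    show (pullback.fst j (eF ≫ τ) ≫ j) z ∈ W
    rw [pullback.condition]
    exact hτ.le ⟨_, rfl⟩
  have h1 := (isIso_pushoutSection_iff (IsPullback.of_hasPullback g τ) hle (le_refl (g ⁻¹ᵁ W)) hUY).1
    (isIso_pushoutSection_of_isQuasiSeparated_of_flat_right _ _ _ _ hW (isAffineOpen_top U)
      (g.isCompact_preimage hW.isCompact) (g.isQuasiSeparated_preimage hW.isQuasiSeparated))
  have h2 := (isIso_pushoutSection_iff (IsPullback.of_hasPullback j (eF ≫ τ)) hle' (le_refl (j ⁻¹ᵁ W)) hUY').1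
    (isIso_pushoutSection_of_isQuasiSeparated_of_flat_right _ _ _ _ hW (isAffineOpen_top F)
      (j.isCompact_preimage hW.isCompact) (j.isQuasiSeparated_preimage hW.isQuasiSeparated))
  haveI : IsIso (j.appLE W (j ⁻¹ᵁ W) le_rfl) := by
    rw [← Scheme.Hom.app_eq_appLE]
    exact (ConcreteCategory.isIso_iff_bijective _).2 hj
  haveI hsnd : IsIso ((pullback.snd j (eF ≫ τ)).appLE ⊤ ⊤ (by simp)) := h2.isIso_inr_of_isIso
  have hff : (τ.appLE W ⊤ hle).hom.FaithfullyFlat := by
    haveI : IsAffine W := hW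
    let τ' : U ⟶ W := IsOpenImmersion.lift W.ι τ (by rw [Scheme.Opens.range_ι]; exact hτ.le)
    have hτ' : τ' ≫ W.ι = τ := IsOpenImmersion.lift_fac _ _ _
    haveI : Flat (τ' ≫ W.ι) := by rw [hτ']; infer_instance
    haveI : Flat τ' := MorphismProperty.of_postcomp (W := @Flat) (W' := @IsOpenImmersion) τ' W.ι inferInstance this
    haveI : Surjective τ' := ⟨fun w => by
      obtain ⟨x, hx⟩ := hτ.ge w.2
      refine ⟨x, W.ι.isOpenEmbedding.injective ?_⟩
      rw [← Scheme.Hom.comp_apply, hτ']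
      exact hx⟩
    have h := (Flat.flat_and_surjective_iff_faithfullyFlat_of_isAffine (f := τ')).1 ⟨inferInstance, inferInstance⟩
    have e : τ.appLE W ⊤ hle = W.topIso.inv ≫ τ'.appTop := by
      have e0 : W.ι.appLE W ⊤ (by simp) = W.topIso.inv := by
        simp [Scheme.Opens.topIso]; rfl
      rw [← e0, show τ'.appTop = τ'.appLE ⊤ ⊤ le_top by rw [Scheme.Hom.appTop, Scheme.Hom.app_eq_appLE]; rfl,
        Scheme.Hom.appLE_comp_appLE]
      simp only [hτ']
    rw [e, CommRingCat.hom_comp]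
    exact RingHom.FaithfullyFlat.stableUnderComposition _ _
      (RingHom.FaithfullyFlat.of_bijective (ConcreteCategory.bijective_of_isIso W.topIso.inv)) h
  have key : ∀ {Q : ∀ {R S : Type u} [CommRing R] [CommRing S], (R →+* S) → Prop},
      RingHom.RespectsIso Q → RingHom.CodescendsAlong Q RingHom.FaithfullyFlat → Q eF.appTop.hom →
      Q (g.app W).hom := by
    intro Q hQi hQd hQ
    rw [Scheme.Hom.app_eq_appLE]
    refine codescends hQd h1.flip.flip hff ?_
    have e : (pullback.snd g τ).appLE ⊤ ⊤ (by simp) = eF.appTop ≫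
        ((pullback.snd j (eF ≫ τ)).appLE ⊤ ⊤ (by simp) ≫ φ.hom.appTop) := by
      have aux : ∀ {A B : Scheme.{u}} (k : A ⟶ B) (h : (⊤ : A.Opens) ≤ k ⁻¹ᵁ ⊤), k.appLE ⊤ ⊤ h = k.appTop :=
        fun k h => by rw [Scheme.Hom.appTop, Scheme.Hom.app_eq_appLE]; rfl
      simp only [aux, ← Scheme.Hom.comp_appTop, Category.assoc, hφ]
    rw [e]
    exact (RingHom.RespectsIso.cancel_right_isIso hQi _ _).2 hQ
  refine ⟨key RingHom.finite_respectsIso RingHom.Finite.codescendsAlong_faithfullyFlat ?_,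
    key RingHom.Etale.respectsIso RingHom.Etale.codescendsAlong_faithfullyFlat ?_⟩
  · exact IsFinite.finite_app eF ⊤ (isAffineOpen_top U)
  · exact HasRingHomProperty.appTop (P := @Etale) eF inferInstance

end Groth.Agent.PureDesc
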