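import Groth.Agent.PureDesc.Key
import Groth.Agent.Pi1X.FEtGlobal
import Groth.Agent.H23.StalkPrimes
import Groth.Agent.Pi1Ext.EtalePure
import Mathlib.AlgebraicGeometry.Morphisms.Descent
import Mathlib.AlgebraicGeometry.Noetherian

/-! Purity descends along faithfully flat quasi-compact morphisms. -/

set_option autoImplicit false
set_option backward.isDefEq.respectTransparency false
set_option backward.isDefEq.respectTransparency.types false
set_option linter.style.haveILetI false
universe u

open CategoryTheory CategoryTheory.Limits AlgebraicGeometry TopologicalSpace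

noncomputable section

namespace Groth.Agent.PureDesc

variable {Z : Scheme.{u}} [IsLocallyNoetherian Z] {P : Scheme.{u}} (j : P ⟶ Z) [IsOpenImmersion j]
  (hd : ∀ z : Z, z ∉ Set.range j → (2 : ℕ∞) ≤ LocCoh.depth (Z.presheaf.stalk z) (Z.presheaf.stalk z))

include hd in
theorem app_bijective (W : Z.Opens) : Function.Bijective (j.app W) := by
  have h1 := Hartogs.restrict_bijective j.opensRange (fun z hz => hd z hz) W
  haveI : IsIso (j.app (W ⊓ j.opensRange)) := j.isIso_app _ inf_le_right
  have h2 := ConcreteCategory.bijective_of_isIso (j.app (W ⊓ j.opensRange))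
  have he : j ⁻¹ᵁ (W ⊓ j.opensRange) = j ⁻¹ᵁ W :=
    le_antisymm (fun x hx => hx.1) (fun x hx => ⟨hx, ⟨x, rfl⟩⟩)
  have h3 := ConcreteCategory.bijective_of_isIso (P.presheaf.map (eqToHom he.symm).op)
  have e : j.app W = Z.presheaf.map (homOfLE (inf_le_left : W ⊓ j.opensRange ≤ W)).op ≫
      j.app (W ⊓ j.opensRange) ≫ P.presheaf.map (eqToHom he.symm).op := by
    rw [Scheme.Hom.naturality_assoc, ← P.presheaf.map_comp]
    generalize (((Opens.map j.base).map _).op ≫ (eqToHom he.symm).op) = q
    rw [Subsingleton.elim q (𝟙 _)]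
    erw [P.presheaf.map_id, Category.comp_id]
  rw [show (j.app W : Γ(Z, W) → Γ(P, j ⁻¹ᵁ W)) = _ from funext fun a => ConcreteCategory.congr_hom e a]
  exact (h3.comp h2).comp h1

include hd in
theorem quasi_dense {C : Set Z} (hC : IsClopen C) (hne : C.Nonempty) : (C ∩ Set.range j).Nonempty := by
  obtain ⟨x, hx⟩ := hne
  obtain ⟨η, hη, h0⟩ : ∃ η : Z, η ⤳ x ∧ ringKrullDim (Z.presheaf.stalk η) = 0 := by
    obtain ⟨p, hp⟩ := Ideal.nonempty_minimalPrimes (I := (⊥ : Ideal (Z.presheaf.stalk x))) bot_ne_top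
    haveI := hp.1.1
    obtain ⟨η, hη, hηp⟩ := H23.StalkPrimes.exists_point p
    refine ⟨η, hη, ?_⟩
    letI := (Z.presheaf.stalkSpecializes hη).hom.toAlgebra
    haveI := H23.StalkPrimes.isLocalization_primeOf hη
    rw [IsLocalization.AtPrime.ringKrullDim_eq_height (CDiv6.primeOf hη).asIdeal (Z.presheaf.stalk η)]
    have hp' : (CDiv6.primeOf hη).asIdeal ∈ minimalPrimes (Z.presheaf.stalk x) := by rw [hηp]; exact hp
    rw [Ideal.height_eq_zero_iff.2 hp']
    rfl
  refine ⟨η, hη.mem_open hC.2 hx, ?_⟩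
  by_contra hn
  have h2 := Pi1Ext.dim_ge_of_depth_ge (hd η hn)
  rw [h0] at h2
  exact absurd h2 (by decide)

include hd in
theorem full_faithful : (FEt.restrict j).Full ∧ (FEt.restrict j).Faithful := by
  have h : ∀ C : Set Z, IsClopen C → C.Nonempty → (C ∩ Set.range j.base).Nonempty := fun C hC hne =>
    quasi_dense j hd hC hne
  refine ⟨Pi1X.restrict_full j h fun W C hC => ?_, Pi1X.restrict_faithful j h⟩
  haveI : Etale W.hom := W.prop.2
  let g : W.left ⟶ Z := W.hom
  haveI : Etale g := W.prop.2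
  haveI : IsLocallyNoetherian W.left := LocallyOfFiniteType.isLocallyNoetherian g
  refine Pi1X.exists_isClopen_preimage _ (Pi1X.appTop_bijective_of_depth _ fun w hw => ?_) C hC
  rw [Scheme.Pullback.range_fst] at hw
  exact (hd (g.base w) hw).trans (Pi1X.depth_stalk_le g w)

variable {T : Scheme.{u}} (π : T ⟶ Z) [Flat π] [Surjective π] [QuasiCompact π]

include hd in
theorem finite_etale_app_of_extends {E : Scheme.{u}} (hE : E ⟶ P) [IsFinite hE] [Etale hE]
    {F : Scheme.{u}} (k : pullback hE (pullback.snd π j) ⟶ F) (e : F ⟶ T) [IsFinite e] [Etale e]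
    (H : IsPullback k (pullback.snd hE (pullback.snd π j)) e (pullback.fst π j))
    {W : Z.Opens} (hW : IsAffineOpen W) :
    ((hE ≫ j).app W).hom.Finite ∧ ((hE ≫ j).app W).hom.Etale := by
  haveI : CompactSpace (π ⁻¹ᵁ W : Scheme.{u}) :=
    isCompact_iff_compactSpace.mp (π.isCompact_preimage hW.isCompact)
  obtain ⟨U, p, hps, hpf, hU⟩ :=
    Scheme.exists_hom_isAffine_of_isZariskiLocalAtSource (P := @Flat) (π ⁻¹ᵁ W : Scheme.{u})
  haveI := hU
  haveI := hpf
  let v : U ⟶ T := p ≫ (π ⁻¹ᵁ W).ι
  haveI : Flat v := inferInstance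
  have hτ : Set.range (v ≫ π) = W := by
    refine Set.Subset.antisymm ?_ fun z hz => ?_
    · rintro _ ⟨x, rfl⟩
      exact (p x).2
    · obtain ⟨t, rfl⟩ := π.surjective z
      obtain ⟨x, hx⟩ := p.surjective ⟨t, hz⟩
      refine ⟨x, ?_⟩
      show π ((π ⁻¹ᵁ W).ι (p x)) = π t
      rw [hx]
      rfl
  let E₁ := pullback hE (pullback.snd π j)
  have B : IsPullback (pullback.snd π j) (pullback.fst π j) j π := (IsPullback.of_hasPullback π j).flip
  have S1 : IsPullback (pullback.fst hE (pullback.snd π j))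
      (pullback.snd hE (pullback.snd π j) ≫ pullback.fst π j) (hE ≫ j) π :=
    (IsPullback.of_hasPullback hE (pullback.snd π j)).paste_vert B
  have S2 : IsPullback (pullback.snd hE (pullback.snd π j) ≫ pullback.snd π j) k j (e ≫ π) :=
    H.flip.paste_horiz B
  have Q : IsPullback (pullback.fst k (pullback.fst e v)) (pullback.snd k (pullback.fst e v)) k
      (pullback.fst e v) := IsPullback.of_hasPullback _ _
  have T2 := Q.paste_horiz S2
  have T1 := (Q.paste_vert (IsPullback.of_hasPullback e v))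
  rw [H.w] at T1
  have T1' := T1.paste_horiz S1
  have hc : pullback.fst e v ≫ e ≫ π = pullback.snd e v ≫ v ≫ π := pullback.condition_assoc π
  rw [hc] at T2
  refine finite_etale_app j (hE ≫ j) (v ≫ π) (pullback.snd e v)
    (T1'.isoPullback.symm ≪≫ T2.isoPullback) ?_ hW hτ (app_bijective j hd W)
  show (T1'.isoPullback.inv ≫ T2.isoPullback.hom) ≫ _ ≫ _ = _
  simp only [Category.assoc]
  erw [T2.isoPullback_hom_snd_assoc]
  rw [Iso.inv_comp_eq]
  exact T1'.isoPullback_hom_snd.symm

include hd in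
/-- A cover of the open part extends if its base change does. -/
theorem exists_extension {E : Scheme.{u}} (hE : E ⟶ P) (hp : FEt.prop hE)
    (hext : ∀ {E₁ : Scheme.{u}} (h₁ : E₁ ⟶ pullback π j), FEt.prop h₁ →
      ∃ (F : Scheme.{u}) (k : E₁ ⟶ F) (e : F ⟶ T), FEt.prop e ∧ IsPullback k h₁ e (pullback.fst π j)) :
    ∃ (N : Scheme.{u}) (n : N ⟶ Z) (k : E ⟶ N), FEt.prop n ∧ IsPullback k hE n j := by
  haveI := hp.1
  haveI := hp.2
  obtain ⟨F, k, e, ⟨he₁, he₂⟩, H⟩ := hext (pullback.snd hE (pullback.snd π j))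
    (MorphismProperty.pullback_snd _ _ hp)
  haveI := he₁
  haveI := he₂
  let g := hE ≫ j
  have happ : ∀ W : Z.Opens, IsAffineOpen W → (g.fromNormalization.app W).hom.Finite ∧
      (g.fromNormalization.app W).hom.Etale := by
    intro W hW
    obtain ⟨h1, h2⟩ := finite_etale_app_of_extends j hd π hE k e H hW
    letI := (g.app W).hom.toAlgebra
    have htop : integralClosure Γ(Z, W) Γ(E, g ⁻¹ᵁ W) = ⊤ := by
      rw [integralClosure_eq_top_iff, ← algebraMap_isIntegral_iff, RingHom.algebraMap_toAlgebra]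
      exact h1.to_isIntegral
    let ε : integralClosure Γ(Z, W) Γ(E, g ⁻¹ᵁ W) ≃+* Γ(E, g ⁻¹ᵁ W) :=
      ((Subalgebra.equivOfEq _ _ htop).trans Subalgebra.topEquiv).toRingEquiv
    have hf : g.fromNormalization.app W =
        g.app W ≫ (ε.toCommRingCatIso.inv ≫ (g.normalizationObjIso hW).inv) := by
      rw [g.fromNormalization_app hW, ← Category.assoc (g.app W)]
      congr 1
    rw [hf]
    exact ⟨(RingHom.RespectsIso.cancel_right_isIso RingHom.finite_respectsIso _ _).2 h1,
      (RingHom.RespectsIso.cancel_right_isIso RingHom.Etale.respectsIso _ _).2 h2⟩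
  have hfin : IsFinite g.fromNormalization := (isFinite_iff _).2 ⟨inferInstance, fun W hW => (happ W hW).1⟩
  have het : Etale g.fromNormalization := by
    refine (IsZariskiLocalAtTarget.iff_of_iSup_eq_top (P := @Etale) (fun W : Z.affineOpens => W.1)
      (iSup_affineOpens_eq_top _)).2 fun W => ?_
    haveI : IsAffine W.1 := W.2
    haveI : IsAffine (g.fromNormalization ⁻¹ᵁ W.1) := W.2.preimage g.fromNormalization
    rw [HasRingHomProperty.iff_of_isAffine (P := @Etale)]
    have key : ∀ (W' : Z.Opens) (U' : g.normalization.Opens) (e' : U' ≤ g.fromNormalization ⁻¹ᵁ W'),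
        W' = W.1 → U' = g.fromNormalization ⁻¹ᵁ W.1 → (g.fromNormalization.appLE W' U' e').hom.Etale := by
      rintro _ _ e' rfl rfl
      rw [← Scheme.Hom.app_eq_appLE]
      exact (happ W.1 W.2).2
    rw [Scheme.Hom.appTop, morphismRestrict_app']
    exact key _ _ _ (Scheme.Opens.ι_image_top _) (Scheme.Opens.ι_image_top _)
  haveI : IsIntegralHom hE := inferInstance
  have hsq : IsPullback (𝟙 E) hE g j := by
    refine IsPullback.of_isLimit' ⟨by simp [g]⟩ (PullbackCone.IsLimit.mk _ (fun s => s.fst)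
      (fun s => by simp) (fun s => ?_) (fun s m h1 h2 => by simpa using h1))
    rw [← cancel_mono j, Category.assoc]
    exact s.condition
  have hsn : pullback.snd g j = hsq.isoPullback.inv ≫ hE := hsq.isoPullback_inv_snd.symm
  haveI : IsIntegralHom (pullback.snd g j) := by rw [hsn]; infer_instance
  refine ⟨g.normalization, g.fromNormalization, g.toNormalization, ⟨hfin, het⟩, ?_⟩
  refine IsPullback.of_iso_pullback ⟨g.toNormalization_fromNormalization⟩
    (hsq.isoPullback ≪≫ asIso (pullback.snd g j).toNormalization ≪≫ asIso (g.normalizationPullback j)) ?_ ?_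
  · simp [hsq.isoPullback_hom_fst]
  · simp [hsq.isoPullback_hom_snd]

end Groth.Agent.PureDesc
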